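import Mathlib
import Cfsg.Agent.Lib.DGN.Basic
import Cfsg.Agent.Lib.Char.DegDvd
import Cfsg.Agent.Lib.Char.Extend
import Cfsg.Agent.Lib.Glauberman.PGroup
import Cfsg.Agent.Lib.Glauberman.Lemma
import Cfsg.Agent.Lib.Glauberman.Canonical
import Cfsg.Agent.S0867

/-!
# The invariant case of the Dade–Glauberman–Nagao type correspondence
-/

set_option autoImplicit false
set_option linter.unusedSectionVars false
set_option linter.style.haveILetI false

namespace Cfsg.Agent.Lib.DGN.Invariant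

open Module Finset
open Cfsg Cfsg.Agent.Lib.Char.Basic Cfsg.Agent.Lib.Char.Ortho Cfsg.Agent.Lib.Char.Complete
open Cfsg.Agent.Lib.Char.Induced Cfsg.Agent.Lib.Char.IndRep Cfsg.Agent.Lib.Char.Conj
open Cfsg.Agent.Lib.Char.Clifford Cfsg.Agent.Lib.Char.CliffordCorr
open Cfsg.Agent.Lib.Char.Gallagher Cfsg.Agent.Lib.Char.DegDvd
open Cfsg.Agent.Lib.DGN.Basic Cfsg.Agent.Lib.Glauberman.PGroup Cfsg.Agent.Lib.Glauberman.Lemma
open scoped Classical ComplexConjugate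

universe u

section Gal

variable {X : Type u} [Group X] [Fintype X] (N : Subgroup X) [hN : N.Normal]

/-- Inflation times an extension. -/
noncomputable def gm (τ : X → ℂ) (β : X ⧸ N → ℂ) : X → ℂ := fun x => β (x : X ⧸ N) * τ x

variable {N} {τ : X → ℂ}

theorem gm_apply (β : X ⧸ N → ℂ) (x : X) : gm N τ β x = β (x : X ⧸ N) * τ x := rfl

theorem gm_restrict (β : X ⧸ N → ℂ) (n : N) : gm N τ β n = β 1 * τ n := by
  rw [gm_apply]
  congr 2
  exact (QuotientGroup.eq_one_iff _).mpr n.2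

theorem isIrr_infl {β : X ⧸ N → ℂ} (hβ : IsIrrCharacter (X ⧸ N) β) :
    IsIrrCharacter X (fun x : X => β (x : X ⧸ N)) :=
  Cfsg.Agent.Lib.Char.Linear.isIrrCharacter_comp (QuotientGroup.mk' N)
    (QuotientGroup.mk'_surjective N) hβ

theorem classInner_one_infl {β : X ⧸ N → ℂ} (hβ : IsIrrCharacter (X ⧸ N) β) :
    classInner (indFun N (fun _ => 1)) (fun x : X => β (x : X ⧸ N)) ≠ 0 := by
  have hinfl := isIrr_infl hβ
  rw [classInner_indFun_left N _ _ (isClassFunction_of_isIrrCharacter hinfl)]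
  apply classInner_ne_zero_comm
  have h1 : (fun n : N => β ((n : X) : X ⧸ N)) = fun _ => β 1 := by
    funext n
    congr 1
    exact (QuotientGroup.eq_one_iff _).mpr n.2
  rw [h1]
  have h2 : (fun _ : N => β 1) = (β 1) • (fun _ : N => (1 : ℂ)) := by
    funext n
    simp
  rw [h2, classInner_smul_left]
  have hone : classInner (fun _ : N => (1 : ℂ)) (fun _ : N => (1 : ℂ)) = 1 := by
    simp [classInner, ← Nat.card_eq_fintype_card, Finset.card_univ]
  rw [hone, mul_one]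
  exact irr_one_ne_zero hβ

section

variable (hτ : IsIrrCharacter X τ) (hτN : IsIrrCharacter N (fun n : N => τ n))

include hτ hτN

theorem gal_bij : Set.BijOn (fun β : X → ℂ => β * τ)
    {β : X → ℂ | IsIrrCharacter X β ∧ classInner (indFun N (fun _ => 1)) β ≠ 0}
    {ψ : X → ℂ | IsIrrCharacter X ψ ∧ classInner (indFun N
      ((fun _ : N => (1 : ℂ)) * (fun n : N => τ n))) ψ ≠ 0} := by
  have hτcf := isClassFunction_of_isIrrCharacter hτ
  have hone_mul : (fun _ : N => (1 : ℂ)) * (fun n : N => τ n) = fun n : N => τ n := by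
    funext n
    simp
  exact bijOn_mul_extension (φ := fun _ : N => (1 : ℂ)) (ϑ := fun n : N => τ n) hN
    (by
      refine isIrrCharacter_of_classInner_self_eq_one isCharacter_one ?_
      simp [classInner, ← Nat.card_eq_fintype_card, Finset.card_univ])
    (fun _ => rfl) (fun g => conjOn_restrict hN hτcf g) (by rw [hone_mul]; exact hτN) hτ rfl

theorem gm_irr {β : X ⧸ N → ℂ} (hβ : IsIrrCharacter (X ⧸ N) β) :
    IsIrrCharacter X (gm N τ β) :=
  ((gal_bij hτ hτN).mapsTo ⟨isIrr_infl hβ, classInner_one_infl hβ⟩).1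

theorem gm_inj {β β' : X ⧸ N → ℂ} (hβ : IsIrrCharacter (X ⧸ N) β)
    (hβ' : IsIrrCharacter (X ⧸ N) β') (h : gm N τ β = gm N τ β') : β = β' := by
  have h1 := (gal_bij hτ hτN).injOn ⟨isIrr_infl hβ, classInner_one_infl hβ⟩
    ⟨isIrr_infl hβ', classInner_one_infl hβ'⟩ h
  funext y
  induction y using QuotientGroup.induction_on with
  | H x => exact congrFun h1 x

theorem exists_gm {ψ : X → ℂ} (hψ : IsIrrCharacter X ψ)
    (hcon : classInner (fun n : N => ψ n) (fun n : N => τ n) ≠ 0) :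
    ∃ β : X ⧸ N → ℂ, IsIrrCharacter (X ⧸ N) β ∧ ψ = gm N τ β := by
  obtain ⟨β, hβ, hβ1, hψβ⟩ := exists_mul_of_lies_over hN hτ hτN hψ hcon
  obtain ⟨φ, hφ, hφeq⟩ := Cfsg.Agent.Lib.Char.Linear.isIrrCharacter_descend (QuotientGroup.mk' N)
    (QuotientGroup.mk'_surjective N) hβ (fun k hk => by
      have hk' : k ∈ N := by simpa using hk
      exact hβ1 ⟨k, hk'⟩)
  refine ⟨φ, hφ, ?_⟩
  rw [hψβ, hφeq]
  rfl

theorem classInner_gm_gm {u : X ⧸ N → ℂ} (hu : IsClassFunction (X ⧸ N) u) {γ : X ⧸ N → ℂ}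
    (hγ : IsIrrCharacter (X ⧸ N) γ) :
    classInner (gm N τ u) (gm N τ γ) = classInner u γ := by
  have := finite_irrCharacter (G := X ⧸ N)
  letI := Fintype.ofFinite (IrrCharacter (X ⧸ N))
  have hexp := classFunction_eq_sum hu
  have h1 : gm N τ u = ∑ γ' : IrrCharacter (X ⧸ N), classInner u (γ' : X ⧸ N → ℂ) •
      gm N τ (γ' : X ⧸ N → ℂ) := by
    funext x
    rw [gm_apply, Finset.sum_apply]
    conv_lhs => rw [hexp]
    rw [Finset.sum_apply, Finset.sum_mul]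
    refine Finset.sum_congr rfl fun γ' _ => ?_
    simp [gm_apply, mul_assoc]
  rw [h1, classInner_sum_left, Finset.sum_eq_single (⟨γ, hγ⟩ : IrrCharacter (X ⧸ N))]
  · rw [classInner_smul_left, classInner_self_of_isIrr (gm_irr hτ hτN hγ), mul_one]
  · intro γ' _ hne
    rw [classInner_smul_left, classInner_eq_zero_of_isIrr_of_ne (gm_irr hτ hτN γ'.2)
      (gm_irr hτ hτN hγ) (fun h => hne (Subtype.ext (gm_inj hτ hτN γ'.2 hγ h))), mul_zero]
  · intro h
    exact absurd (Finset.mem_univ _) h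

end

end Gal

section StepA

variable {G : Type u} [Group G] [Fintype G]

/-- Invariance under conjugation by `P` of a function on a subgroup. -/
def PI (P A : Subgroup G) (f : A → ℂ) : Prop :=
  ∀ x ∈ P, ∀ k k' : A, (k' : G) = x * (k : G) * x⁻¹ → f k' = f k

/-- A multiplicity that is `±1` modulo `p`. -/
def Good (p : ℕ) (z : ℂ) : Prop := ∃ ε k : ℤ, (ε = 1 ∨ ε = -1) ∧ z = ((p * k + ε : ℤ) : ℂ)

/-- A multiplicity that is `0` modulo `p`. -/
def Bad (p : ℕ) (z : ℂ) : Prop := ∃ k : ℤ, z = ((p * k : ℤ) : ℂ)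

/-- The conjugation action of a subgroup on the ambient group. -/
def conjHom (P : Subgroup G) : P →* MulAut G := MulAut.conj.comp P.subtype

@[simp] theorem conjHom_apply (P : Subgroup G) (x : P) (g : G) :
    conjHom P x g = x * g * (x : G)⁻¹ := rfl

/-- The conjugation action on a normalized subgroup. -/
def actOn (P A : Subgroup G) (h : ∀ x ∈ P, ∀ a ∈ A, x * a * x⁻¹ ∈ A) : P →* MulAut A :=
  restrictHom (conjHom P) A (fun s g hg => h s s.2 g hg)

theorem actOn_coe (P A : Subgroup G) (h : ∀ x ∈ P, ∀ a ∈ A, x * a * x⁻¹ ∈ A) (x : P) (a : A) :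
    ((actOn P A h x a : A) : G) = x * a * (x : G)⁻¹ := rfl

theorem fun_eq_th {Q A : Subgroup G} (hQA : Q ≤ A) {τ : A → ℂ} {lam : Q → ℂ}
    (hτQ : rs hQA τ = lam) : (fun n : Q.subgroupOf A => τ n) = th hQA lam := by
  subst hτQ
  rfl

/-- The canonical extension to `T` of a `T`- and `P`-invariant character of `Q`. -/
theorem exists_canonical {p : ℕ} (hp : p.Prime) {P Q T : Subgroup G}
    (hPT : ∀ x ∈ P, ∀ t ∈ T, x * t * x⁻¹ ∈ T) (hPQ : ∀ x ∈ P, ∀ q ∈ Q, x * q * x⁻¹ ∈ Q) (hQT : Q ≤ T)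
    (hQn : ∀ t ∈ T, ∀ q ∈ Q, t * q * t⁻¹ ∈ Q)
    (hQp : IsPGroup p Q) (hQs : ¬ p ∣ Q.relIndex T) {lam : Q → ℂ} (hlam : IsIrrCharacter Q lam)
    (hlamT : ∀ t ∈ T, ∀ q q' : Q, (q' : G) = t * q * t⁻¹ → lam q' = lam q)
    (hlamP : ∀ x ∈ P, ∀ q q' : Q, (q' : G) = x * q * x⁻¹ → lam q' = lam q) :
    ∃ τ : T → ℂ, IsIrrCharacter T τ ∧ rs hQT τ = lam ∧ PI P T τ := by
  haveI : Fact p.Prime := ⟨hp⟩
  haveI hN : (Q.subgroupOf T).Normal := normal_subgroupOf hQn
  have hϑ := isIrr_th hQT hlam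
  have hϑc := isCharacter_of_isIrrCharacter hϑ
  obtain ⟨d, hd⟩ := exists_deg_of_isCharacter hϑc
  have hinv : ∀ (g : T) (n : Q.subgroupOf T), th hQT lam ⟨g * n * g⁻¹, hN.conj_mem (n : T) n.2 g⟩ =
      th hQT lam n := fun g n => hlamT g g.2 _ _ rfl
  -- orders
  have hcard : Nat.card (Q.subgroupOf T) = Nat.card Q :=
    Nat.card_congr (Subgroup.subgroupOfEquivOfLe hQT).toEquiv
  obtain ⟨a, ha⟩ := IsPGroup.iff_card.mp hQp
  have hc : Nat.Coprime (Q.subgroupOf T).index (p ^ a) :=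
    Nat.Coprime.pow_right _ ((Nat.Prime.coprime_iff_not_dvd hp).mpr hQs).symm
  have hdo : detOrder (th hQT lam) ∣ p ^ a := by
    rw [← ha, ← hcard]
    exact Cfsg.Agent.Lib.Glauberman.Canonical.detOrder_dvd_card hϑc
  have hdd : d ∣ p ^ a := by
    rw [← ha, ← hcard]
    obtain ⟨n, ρ, hρ, hχ⟩ := hϑ
    haveI : ρ.IsIrreducible := hρ
    have h1 := Cfsg.Agent.Lib.Char.Central.finrank_dvd_card (ρ := ρ)
    have h2 : ((finrank ℂ (Fin n → ℂ) : ℕ) : ℂ) = (d : ℂ) := by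
      rw [← hd, ← hχ]
      simp [Representation.character]
    have h3 : finrank ℂ (Fin n → ℂ) = d := by exact_mod_cast h2
    rwa [h3] at h1
  have hcop : Nat.Coprime (Q.subgroupOf T).index (detOrder (th hQT lam) * d) :=
    Nat.Coprime.mul_right (hc.coprime_dvd_right hdo) (hc.coprime_dvd_right hdd)
  obtain ⟨χ, ⟨hχ, hχN, hχdet⟩, huniq⟩ :=
    Cfsg.Agent.S0867.result (Q.subgroupOf T) (th hQT lam) hϑ hinv d hd hcop
  refine ⟨χ, hχ, ?_, ?_⟩
  · funext q
    exact (hχN ⟨⟨q, hQT q.2⟩, q.2⟩).trans rfl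
  · intro x hx k k' hk
    let σ : T ≃* T := actOn P T hPT ⟨x, hx⟩
    have hk' : k' = σ k := Subtype.ext hk
    have hχc := isCharacter_of_isIrrCharacter hχ
    have heq : χ ∘ σ = χ := by
      apply huniq _ (isIrrCharacter_comp_mulEquiv σ hχ)
      · intro n
        show χ (σ (n : T)) = _
        have hmem : ((σ (n : T) : T)) ∈ Q.subgroupOf T := by
          rw [Subgroup.mem_subgroupOf]
          exact hPQ x hx _ n.2
        have := hχN ⟨σ n, hmem⟩
        rw [show ((⟨σ n, hmem⟩ : Q.subgroupOf T) : T) = σ n from rfl] at this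
        rw [this]
        exact hlamP x hx _ _ rfl
      · have h1 : detOrder (χ ∘ σ) ∣ detOrder χ := by
          unfold detOrder
          apply orderOf_dvd_of_pow_eq_one
          funext y
          have h2 := Cfsg.Agent.Lib.CharDeep.Det.detChar_comp σ.toMonoidHom hχc y
          have h3 : (detChar χ) ^ orderOf (detChar χ) = 1 := pow_orderOf_eq_one _
          have h4 := congrFun h3 (σ y)
          simp only [Pi.pow_apply, Pi.one_apply] at h4 ⊢
          have h5 : detChar (χ ∘ σ) y = detChar χ (σ y) := h2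
          rw [h5, h4]
        rw [hχdet] at h1
        exact hc.coprime_dvd_right (h1.trans hdo)
    rw [hk']
    exact congrFun heq k

theorem over_gm {Q A : Subgroup G} (hQA : Q ≤ A) [(Q.subgroupOf A).Normal] {τ : A → ℂ}
    {lam : Q → ℂ} (hlam : IsIrrCharacter Q lam) (hτQ : rs hQA τ = lam)
    {γ : A ⧸ Q.subgroupOf A → ℂ} (hγ : IsIrrCharacter _ γ) :
    classInner (rs hQA (gm (Q.subgroupOf A) τ γ)) lam ≠ 0 := by
  have h1 : rs hQA (gm (Q.subgroupOf A) τ γ) = γ 1 • lam := by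
    funext q
    have h2 : (((⟨q, hQA q.2⟩ : A)) : A ⧸ Q.subgroupOf A) = 1 :=
      (QuotientGroup.eq_one_iff _).mpr q.2
    simp only [gm_apply, h2, Pi.smul_apply, smul_eq_mul]
    rw [← hτQ]
  rw [h1, classInner_smul_left, classInner_self_of_isIrr hlam, mul_one]
  exact irr_one_ne_zero hγ

/-- The invariant case. -/
theorem stepA {p : ℕ} (hp : p.Prime) {P Q T D : Subgroup G} (hP : IsPGroup p P)
    (hPT : ∀ x ∈ P, ∀ t ∈ T, x * t * x⁻¹ ∈ T) (hPQ : ∀ x ∈ P, ∀ q ∈ Q, x * q * x⁻¹ ∈ Q)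
    (hQT : Q ≤ T) (hQn : ∀ t ∈ T, ∀ q ∈ Q, t * q * t⁻¹ ∈ Q)
    (hQp : IsPGroup p Q) (hQs : ¬ p ∣ Q.relIndex T)
    (hDT : D ≤ T) (hD : ∀ k, k ∈ D ↔ k ∈ T ∧ ∀ x ∈ P, x * k * x⁻¹ * k⁻¹ ∈ Q)
    (hQD : Q ≤ D) {lam : Q → ℂ} (hlam : IsIrrCharacter Q lam)
    (hlamT : ∀ t ∈ T, ∀ q q' : Q, (q' : G) = t * q * t⁻¹ → lam q' = lam q)
    (hlamP : ∀ x ∈ P, ∀ q q' : Q, (q' : G) = x * q * x⁻¹ → lam q' = lam q) :
    (∀ χ : T → ℂ, IsIrrCharacter T χ → PI P T χ → classInner (rs hQT χ) lam ≠ 0 →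
      ∃ ξ : D → ℂ, IsIrrCharacter D ξ ∧ classInner (rs hQD ξ) lam ≠ 0 ∧
        Good p (classInner (rs hDT χ) ξ) ∧
        ∀ ξ' : D → ℂ, IsIrrCharacter D ξ' → classInner (rs hQD ξ') lam ≠ 0 → ξ' ≠ ξ →
          Bad p (classInner (rs hDT χ) ξ')) ∧
    (∀ ξ : D → ℂ, IsIrrCharacter D ξ → classInner (rs hQD ξ) lam ≠ 0 →
      ∃ χ : T → ℂ, IsIrrCharacter T χ ∧ PI P T χ ∧ classInner (rs hQT χ) lam ≠ 0 ∧
        Good p (classInner (rs hDT χ) ξ) ∧
        ∀ χ' : T → ℂ, IsIrrCharacter T χ' → PI P T χ' → classInner (rs hQT χ') lam ≠ 0 → χ' ≠ χ →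
          Bad p (classInner (rs hDT χ') ξ)) ∧
    (∀ ξ : D → ℂ, IsIrrCharacter D ξ → classInner (rs hQD ξ) lam ≠ 0 → PI P D ξ) := by
  haveI hNT : (Q.subgroupOf T).Normal := normal_subgroupOf hQn
  have hQnD : ∀ d ∈ D, ∀ q ∈ Q, d * q * d⁻¹ ∈ Q := fun d hd q hq => hQn d (hDT hd) q hq
  haveI hND : (Q.subgroupOf D).Normal := normal_subgroupOf hQnD
  obtain ⟨τ, hτ, hτQ, hτP⟩ := exists_canonical hp hPT hPQ hQT hQn hQp hQs hlam hlamT hlamP
  have hτDQ : rs hQD (rs hDT τ) = lam := hτQ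
  have hτN : IsIrrCharacter (Q.subgroupOf T) (fun n => τ n) := by
    rw [fun_eq_th hQT hτQ]
    exact isIrr_th hQT hlam
  have hτDN : IsIrrCharacter (Q.subgroupOf D) (fun n => rs hDT τ n) := by
    rw [fun_eq_th hQD hτDQ]
    exact isIrr_th hQD hlam
  have hτD : IsIrrCharacter D (rs hDT τ) :=
    Cfsg.Agent.Lib.Char.Extend.isIrrCharacter_of_restrict_isIrr (Q.subgroupOf D)
      (isCharacter_rs hDT (isCharacter_of_isIrrCharacter hτ)) hτDN
  -- the action on the quotient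
  let φT : P →* MulAut T := actOn P T hPT
  have hφN : ∀ s, ∀ n ∈ Q.subgroupOf T, φT s n ∈ Q.subgroupOf T := by
    intro s n hn
    rw [Subgroup.mem_subgroupOf] at hn ⊢
    exact hPQ s s.2 n hn
  let φb : P →* MulAut (T ⧸ Q.subgroupOf T) := quotAut (Q.subgroupOf T) φT hφN
  let ι : D ⧸ Q.subgroupOf D →* T ⧸ Q.subgroupOf T :=
    QuotientGroup.map _ _ (Subgroup.inclusion hDT) (by
      intro n hn
      rw [Subgroup.mem_comap, Subgroup.mem_subgroupOf]
      exact Subgroup.mem_subgroupOf.mp hn)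
  have hιmk : ∀ d : D, ι (d : D ⧸ Q.subgroupOf D) = ((⟨d, hDT d.2⟩ : T) : T ⧸ Q.subgroupOf T) :=
    fun d => rfl
  have hι : Function.Injective ι := by
    rw [injective_iff_map_eq_one]
    intro y hy
    induction y using QuotientGroup.induction_on with
    | H d =>
      rw [hιmk, QuotientGroup.eq_one_iff, Subgroup.mem_subgroupOf] at hy
      exact (QuotientGroup.eq_one_iff _).mpr (Subgroup.mem_subgroupOf.mpr hy)
  have hcop : Nat.Coprime p (Nat.card (T ⧸ Q.subgroupOf T)) :=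
    (Nat.Prime.coprime_iff_not_dvd hp).mpr hQs
  have hrange : ∀ g, g ∈ ι.range ↔ ∀ s, φb s g = g := by
    intro g
    induction g using QuotientGroup.induction_on with
    | H t =>
      constructor
      · rintro ⟨y, hy⟩ s
        induction y using QuotientGroup.induction_on with
        | H d =>
          rw [hιmk] at hy
          rw [← hy, quotAut_mk, QuotientGroup.eq, Subgroup.mem_subgroupOf]
          have h1 := ((hD d).mp d.2).2 s s.2
          have h3 : ((φT s ⟨d, hDT d.2⟩)⁻¹ * ⟨d, hDT d.2⟩ : T) = ⟨((s : G) * d * (s : G)⁻¹)⁻¹ * d,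
              T.mul_mem (T.inv_mem (hPT s s.2 d (hDT d.2))) (hDT d.2)⟩ := rfl
          rw [h3]
          have h5 := hQn _ (T.inv_mem (hDT d.2)) _ h1
          have h4 : ((s : G) * d * (s : G)⁻¹)⁻¹ * d =
              ((d : G)⁻¹ * ((s : G) * d * (s : G)⁻¹ * (d : G)⁻¹) * ((d : G)⁻¹)⁻¹)⁻¹ := by group
          show ((s : G) * d * (s : G)⁻¹)⁻¹ * d ∈ Q
          rw [h4]
          exact Q.inv_mem h5
      · intro h
        have ht : (t : G) ∈ D := by
          refine (hD t).mpr ⟨t.2, fun x hx => ?_⟩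
          have h1 := h ⟨x, hx⟩
          rw [quotAut_mk, QuotientGroup.eq, Subgroup.mem_subgroupOf] at h1
          have h2 : ((φT ⟨x, hx⟩ t)⁻¹ * t : T) = ⟨(x * t * x⁻¹)⁻¹ * t,
              T.mul_mem (T.inv_mem (hPT x hx t t.2)) t.2⟩ := rfl
          rw [h2] at h1
          have h3 : x * t * x⁻¹ * (t : G)⁻¹ = (t : G) * ((x * t * x⁻¹)⁻¹ * t)⁻¹ * (t : G)⁻¹ := by group
          rw [h3]
          exact hQn t t.2 _ (Q.inv_mem h1)
        exact ⟨((⟨t, ht⟩ : D) : D ⧸ Q.subgroupOf D), rfl⟩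
  obtain ⟨π, hπ⟩ := mainP hp hP _ (T ⧸ Q.subgroupOf T) (D ⧸ Q.subgroupOf D) φb ι rfl hι hcop hrange
  -- the matrix
  have hmat : ∀ (β : T ⧸ Q.subgroupOf T → ℂ), IsCharacter _ β → ∀ γ : D ⧸ Q.subgroupOf D → ℂ,
      IsIrrCharacter _ γ →
      classInner (rs hDT (gm (Q.subgroupOf T) τ β)) (gm (Q.subgroupOf D) (rs hDT τ) γ) =
        classInner (fun c => β (ι c)) γ := by
    intro β hβ γ hγ
    have h1 : rs hDT (gm (Q.subgroupOf T) τ β) = gm (Q.subgroupOf D) (rs hDT τ) (fun c => β (ι c)) :=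
      rfl
    rw [h1]
    exact classInner_gm_gm hτD hτDN
      (isClassFunction_of_isCharacter (isCharacter_comp ι hβ)) hγ
  -- invariance
  have hPI1 : ∀ β : T ⧸ Q.subgroupOf T → ℂ, IsIrrCharacter _ β → PI P T (gm (Q.subgroupOf T) τ β) →
      ∀ s, β ∘ φb s = β := by
    intro β hβ hPI s
    apply gm_inj hτ hτN (isIrrCharacter_comp_mulEquiv (φb s) hβ) hβ
    funext t
    have h1 := hPI s s.2 t (φT s t) rfl
    have h2 := hτP s s.2 t (φT s t) rfl
    rw [gm_apply, gm_apply] at h1 ⊢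
    rw [h2] at h1
    have h3 : ((φT s t : T) : T ⧸ Q.subgroupOf T) = φb s (t : T ⧸ Q.subgroupOf T) := rfl
    rw [h3] at h1
    exact h1
  have hPI2 : ∀ β : T ⧸ Q.subgroupOf T → ℂ, (∀ s, β ∘ φb s = β) →
      PI P T (gm (Q.subgroupOf T) τ β) := by
    intro β h x hx k k' hk
    have hk' : k' = φT ⟨x, hx⟩ k := Subtype.ext hk
    subst hk'
    rw [gm_apply, gm_apply, hτP x hx k _ rfl]
    congr 1
    exact congrFun (h ⟨x, hx⟩) (k : T ⧸ Q.subgroupOf T)
  -- conversions of "over"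
  have hov : ∀ χ : T → ℂ, classInner (fun n : Q.subgroupOf T => χ n) (fun n => τ n) =
      classInner (rs hQT χ) lam := by
    intro χ
    rw [fun_eq_th hQT hτQ]
    exact classInner_rs_bridge hQT χ
  have hovD : ∀ χ : D → ℂ, classInner (fun n : Q.subgroupOf D => χ n)
      (fun n => rs hDT τ n) = classInner (rs hQD χ) lam := by
    intro χ
    rw [fun_eq_th hQD hτDQ]
    exact classInner_rs_bridge hQD χ
  refine ⟨?_, ?_, ?_⟩
  · intro χ hχ hχP hcon
    obtain ⟨β, hβ, rfl⟩ := exists_gm hτ hτN hχ (by rw [hov]; exact hcon)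
    have hβP := hPI1 β hβ hχP
    obtain ⟨ε, hε, k, hk⟩ := hπ ⟨⟨β, hβ⟩, hβP⟩
    set γ₀ := π ⟨⟨β, hβ⟩, hβP⟩ with hγ₀
    have hβc := isCharacter_of_isIrrCharacter hβ
    refine ⟨gm (Q.subgroupOf D) (rs hDT τ) γ₀, gm_irr hτD hτDN γ₀.2,
      over_gm hQD hlam hτDQ γ₀.2, ?_, ?_⟩
    · refine ⟨ε, k γ₀, hε, ?_⟩
      rw [hmat β hβc _ γ₀.2]
      have := hk γ₀
      rw [if_pos rfl] at this
      exact this
    · intro ξ' hξ' hover hne
      obtain ⟨γ', hγ', rfl⟩ := exists_gm hτD hτDN hξ' (by rw [hovD]; exact hover)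
      refine ⟨k ⟨γ', hγ'⟩, ?_⟩
      rw [hmat β hβc _ hγ']
      have := hk ⟨γ', hγ'⟩
      rw [if_neg (fun h => hne (by
        rw [← show ((⟨γ', hγ'⟩ : IrrCharacter _) : _ → ℂ) = γ' from rfl, h])), add_zero] at this
      exact this
  · intro ξ hξ hover
    obtain ⟨γ, hγ, rfl⟩ := exists_gm hτD hτDN hξ (by rw [hovD]; exact hover)
    set βs := π.symm ⟨γ, hγ⟩ with hβs
    have hβsπ : π βs = ⟨γ, hγ⟩ := by simp [hβs]
    have hβirr := βs.1.2
    obtain ⟨ε, hε, k, hk⟩ := hπ βs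
    refine ⟨gm (Q.subgroupOf T) τ βs.1, gm_irr hτ hτN hβirr, hPI2 _ βs.2,
      over_gm hQT hlam hτQ hβirr, ?_, ?_⟩
    · refine ⟨ε, k ⟨γ, hγ⟩, hε, ?_⟩
      rw [hmat _ (isCharacter_of_isIrrCharacter hβirr) _ hγ]
      have := hk ⟨γ, hγ⟩
      rw [if_pos hβsπ.symm] at this
      exact this
    · intro χ' hχ' hχ'P hover' hne
      obtain ⟨β', hβ', rfl⟩ := exists_gm hτ hτN hχ' (by rw [hov]; exact hover')
      have hβ'P := hPI1 β' hβ' hχ'P
      obtain ⟨ε', hε', k', hk'⟩ := hπ ⟨⟨β', hβ'⟩, hβ'P⟩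
      refine ⟨k' ⟨γ, hγ⟩, ?_⟩
      rw [hmat _ (isCharacter_of_isIrrCharacter hβ') _ hγ]
      have := hk' ⟨γ, hγ⟩
      rw [if_neg, add_zero] at this
      · exact this
      · intro h
        apply hne
        have h2 : (⟨⟨β', hβ'⟩, hβ'P⟩ : {χ : IrrCharacter (T ⧸ Q.subgroupOf T) // ∀ s, (χ : _ → ℂ) ∘ φb s = χ}) = βs :=
          π.injective (h.symm.trans hβsπ.symm)
        rw [← h2]
  · intro ξ hξ hover x hx k k' hk
    obtain ⟨γ, hγ, rfl⟩ := exists_gm hτD hτDN hξ (by rw [hovD]; exact hover)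
    rw [gm_apply, gm_apply]
    have h1 : rs hDT τ k' = rs hDT τ k := hτP x hx _ _ hk
    rw [h1]
    congr 2
    rw [QuotientGroup.eq, Subgroup.mem_subgroupOf]
    have h2 := ((hD k).mp k.2).2 x hx
    have h5 := hQn _ (T.inv_mem (hDT k.2)) _ h2
    have h6 : ((k' : D)⁻¹ * k : D).1 = ((k : G)⁻¹ * (x * k * x⁻¹ * (k : G)⁻¹) * ((k : G)⁻¹)⁻¹)⁻¹ := by
      rw [Subgroup.coe_mul, Subgroup.coe_inv, hk]
      group
    rw [h6]
    exact Q.inv_mem h5

end StepA

end Cfsg.Agent.Lib.DGN.Invariant
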