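import Mathlib
import Cfsg.Agent.Lib.DGN.Invariant
import Cfsg.Agent.Lib.Glauberman.Above

/-!
# The correspondence for a `p`-group acting on a group with a normal Sylow `p`-subgroup
-/

set_option autoImplicit false
set_option linter.unusedSectionVars false
set_option linter.style.haveILetI false

namespace Cfsg.Agent.Lib.DGN.Main

open Module Finset
open Cfsg Cfsg.Agent.Lib.Char.Basic Cfsg.Agent.Lib.Char.Ortho Cfsg.Agent.Lib.Char.Complete
open Cfsg.Agent.Lib.Char.Induced Cfsg.Agent.Lib.Char.IndRep Cfsg.Agent.Lib.Char.Conj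
open Cfsg.Agent.Lib.Char.Clifford Cfsg.Agent.Lib.Char.CliffordCorr
open Cfsg.Agent.Lib.DGN.Basic Cfsg.Agent.Lib.DGN.Invariant Cfsg.Agent.Lib.Char.Degree
open Cfsg.Agent.Lib.Glauberman.PGroup Cfsg.Agent.Lib.Glauberman.Lemma
open scoped Classical ComplexConjugate

universe u

/-- A fixed point mod `N` in a coset of a `φ`-stable subgroup. -/
theorem exists_fixed_coset {A S : Type u} [Group A] [Group S] [Finite A] [Finite S]
    (N : Subgroup A) [N.Normal] (φ : S →* MulAut A) (hφN : ∀ s, ∀ n ∈ N, φ s n ∈ N)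
    (B : Subgroup A) (hφB : ∀ s, ∀ b ∈ B, φ s b ∈ B) (k : A)
    (hk : ∀ s, k⁻¹ * φ s k ∈ B)
    (hcop : (N.subgroupOf B).index.Coprime (Nat.card S)) (hsolv : Group.IsSolvable S) :
    ∃ b ∈ B, ∀ s, (k * b)⁻¹ * φ s (k * b) ∈ N := by
  let α : B →* Equiv.Perm (A ⧸ N) :=
    { toFun := fun b => Equiv.mulRight (((b : A) : A ⧸ N))⁻¹
      map_one' := by
        ext ω
        simp
      map_mul' := fun a b => by
        ext ω
        simp [mul_assoc] }
  have hα : ∀ (b : B) (ω : A ⧸ N), α b ω = ω * (((b : A) : A ⧸ N))⁻¹ := fun _ _ => rfl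
  let βh : S →* Equiv.Perm (A ⧸ N) := (MulAut.toPerm (A ⧸ N)).comp (quotAut N φ hφN)
  have hβ : ∀ (s : S) (ω : A ⧸ N), βh s ω = quotAut N φ hφN s ω := fun _ _ => rfl
  let φB : S →* MulAut B := restrictHom φ B hφB
  have hNB : ∀ s, ∀ n ∈ N.subgroupOf B, φB s n ∈ N.subgroupOf B := by
    intro s n hn
    rw [Subgroup.mem_subgroupOf] at hn ⊢
    exact hφN s _ hn
  have key := glauberman_lemma' (N.subgroupOf B) φB hNB α
    (by
      intro n hn
      ext ω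
      rw [hα, Equiv.Perm.one_apply]
      have : (((n : A)) : A ⧸ N) = 1 := (QuotientGroup.eq_one_iff _).mpr (Subgroup.mem_subgroupOf.mp hn)
      rw [this]
      simp)
    βh
    (by
      intro s g ω
      rw [hβ, hα, hα, hβ, map_mul, map_inv]
      rfl)
    (fun ω => ∃ t ∈ B, ω = ((k * t : A) : A ⧸ N))
    (by
      rintro g ω ⟨t, ht, rfl⟩
      refine ⟨t * (g : A)⁻¹, B.mul_mem ht (B.inv_mem g.2), ?_⟩
      rw [hα]
      rw [← QuotientGroup.mk_inv, ← QuotientGroup.mk_mul]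
      congr 1
      group)
    (by
      rintro s ω ⟨t, ht, rfl⟩
      refine ⟨(k⁻¹ * φ s k) * φ s t, B.mul_mem (hk s) (hφB s t ht), ?_⟩
      rw [hβ, quotAut_mk]
      congr 1
      rw [map_mul]
      group)
    (by
      rintro ω ω' ⟨t, ht, rfl⟩ ⟨t', ht', rfl⟩
      refine ⟨⟨t'⁻¹ * t, B.mul_mem (B.inv_mem ht') ht⟩, ?_⟩
      rw [hα]
      rw [← QuotientGroup.mk_inv, ← QuotientGroup.mk_mul]
      congr 1
      show k * t * (t'⁻¹ * t)⁻¹ = k * t'
      group)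
    hcop (Or.inr hsolv) (ω₀ := ((k * 1 : A) : A ⧸ N)) ⟨1, B.one_mem, rfl⟩
  obtain ⟨ω, ⟨b, hb, rfl⟩, hfix⟩ := key
  refine ⟨b, hb, fun s => ?_⟩
  have h1 := hfix s
  rw [hβ, quotAut_mk] at h1
  exact QuotientGroup.eq.mp h1.symm

section Act

variable {G : Type u} [Group G] [Fintype G]

/-- The action of a subgroup `A` normalizing `Q` on the irreducible characters of `Q`. -/
noncomputable def irrPerm (Q A : Subgroup G) (h : ∀ a ∈ A, ∀ q ∈ Q, a * q * a⁻¹ ∈ Q) :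
    A →* Equiv.Perm (IrrCharacter Q) where
  toFun a :=
    { toFun := fun lam => ⟨lam.1 ∘ (actOn A Q h a⁻¹), isIrrCharacter_comp_mulEquiv _ lam.2⟩
      invFun := fun lam => ⟨lam.1 ∘ (actOn A Q h a), isIrrCharacter_comp_mulEquiv _ lam.2⟩
      left_inv := fun lam => by
        apply Subtype.ext
        funext q
        simp only [Function.comp_apply]
        rw [← MulAut.mul_apply, ← map_mul, inv_mul_cancel, map_one, MulAut.one_apply]
      right_inv := fun lam => by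
        apply Subtype.ext
        funext q
        simp only [Function.comp_apply]
        rw [← MulAut.mul_apply, ← map_mul, mul_inv_cancel, map_one, MulAut.one_apply] }
  map_one' := by
    ext lam q
    simp
  map_mul' a b := by
    ext lam q
    simp only [Equiv.coe_fn_mk, Equiv.Perm.coe_mul, Function.comp_apply, mul_inv_rev, map_mul,
      MulAut.mul_apply]

theorem irrPerm_apply (Q A : Subgroup G) (h : ∀ a ∈ A, ∀ q ∈ Q, a * q * a⁻¹ ∈ Q) (a : A)
    (lam : IrrCharacter Q) (q : Q) :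
    (irrPerm Q A h a lam).1 q = lam.1 (actOn A Q h a⁻¹ q) := rfl

theorem rs_comp_act {Q A : Subgroup G} (hQA : Q ≤ A) (h : ∀ a ∈ A, ∀ q ∈ Q, a * q * a⁻¹ ∈ Q)
    {f : A → ℂ} (hf : IsClassFunction A f) (a : A) :
    rs hQA f ∘ actOn A Q h a = rs hQA f := by
  funext q
  exact hf ⟨q, hQA q.2⟩ a

/-- Invariance of multiplicities under the action. -/
theorem classInner_irrPerm {Q A : Subgroup G} (hQA : Q ≤ A)
    (h : ∀ a ∈ A, ∀ q ∈ Q, a * q * a⁻¹ ∈ Q) {f : A → ℂ} (hf : IsClassFunction A f) (a : A)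
    (lam : IrrCharacter Q) :
    classInner (rs hQA f) (irrPerm Q A h a lam).1 = classInner (rs hQA f) lam.1 := by
  have h1 : (irrPerm Q A h a lam).1 = lam.1 ∘ (actOn A Q h a⁻¹) := rfl
  conv_lhs => rw [h1, ← rs_comp_act hQA h hf a⁻¹]
  exact classInner_comp_mulEquiv _ _ _

theorem mem_stab_iff {Q A : Subgroup G} (h : ∀ a ∈ A, ∀ q ∈ Q, a * q * a⁻¹ ∈ Q) (a : A)
    (lam : IrrCharacter Q) :
    (a : G) ∈ stab Q A h lam.1 ↔ irrPerm Q A h a lam = lam := by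
  constructor
  · intro ha
    apply Subtype.ext
    funext q
    rw [irrPerm_apply]
    exact (ha.2 (actOn A Q h a⁻¹ q) q (by
      rw [actOn_coe]
      simp [mul_assoc])).symm
  · intro ha
    refine ⟨a.2, fun q q' hq => ?_⟩
    have h1 := congrFun (congrArg Subtype.val ha) q'
    rw [irrPerm_apply] at h1
    rw [← h1]
    refine congrArg lam.1 (Subtype.ext ?_)
    rw [actOn_coe, hq]
    simp [mul_assoc]

/-- Clifford: constituents are conjugate. -/
theorem exists_conj_of_under {Q A : Subgroup G} (hQA : Q ≤ A)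
    (hQn : ∀ a ∈ A, ∀ q ∈ Q, a * q * a⁻¹ ∈ Q) {f : A → ℂ} (hf : IsIrrCharacter A f)
    {ω ω' : IrrCharacter Q} (h1 : classInner (rs hQA f) ω.1 ≠ 0)
    (h2 : classInner (rs hQA f) ω'.1 ≠ 0) : ∃ a : A, irrPerm Q A hQn a ω = ω' := by
  by_contra hne
  push Not at hne
  apply h2
  rw [← classInner_rs_bridge hQA f]
  apply classInner_restrict_eq_zero_of_not_conj (normal_subgroupOf hQn) hf (isIrr_th hQA ω.2)
    (isIrr_th hQA ω'.2) (by rw [classInner_rs_bridge hQA]; exact h1)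
  intro g hg
  apply hne g⁻¹
  apply Subtype.ext
  funext q
  rw [irrPerm_apply]
  have h3 := congrFun hg ⟨⟨q, hQA q.2⟩, q.2⟩
  rw [conjOn_apply] at h3
  refine Eq.trans ?_ h3
  refine congrArg ω.1 (Subtype.ext ?_)
  rw [actOn_coe]
  simp

theorem isSolvable_of_isPGroup {p : ℕ} (hp : p.Prime) {S : Type*} [Group S] [Finite S]
    (h : IsPGroup p S) : Group.IsSolvable S := by
  haveI : Fact p.Prime := ⟨hp⟩
  haveI := h.isNilpotent
  infer_instance

theorem fixed_of_fixed {P Q : Subgroup G} (hPQ : ∀ x ∈ P, ∀ q ∈ Q, x * q * x⁻¹ ∈ Q)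
    {lam : IrrCharacter Q} (h : ∀ s, irrPerm Q P hPQ s lam = lam) :
    ∀ x ∈ P, ∀ q q' : Q, (q' : G) = x * q * x⁻¹ → lam.1 q' = lam.1 q := by
  intro x hx q q' hq
  have hx' : x⁻¹ ∈ P := P.inv_mem hx
  have h1 := congrFun (congrArg Subtype.val (h ⟨x⁻¹, hx'⟩)) q
  rw [irrPerm_apply] at h1
  rw [← h1]
  refine congrArg lam.1 (Subtype.ext ?_)
  rw [actOn_coe, hq]
  simp

/-- A `P`-invariant irreducible character of `A` lies over a `P`-fixed irreducible character of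
`Q`. -/
theorem exists_fixed_under {p : ℕ} (hp : p.Prime) {P Q A : Subgroup G} (hP : IsPGroup p P)
    (hPA : ∀ x ∈ P, ∀ a ∈ A, x * a * x⁻¹ ∈ A) (hPQ : ∀ x ∈ P, ∀ q ∈ Q, x * q * x⁻¹ ∈ Q)
    (hQA : Q ≤ A) (hQn : ∀ a ∈ A, ∀ q ∈ Q, a * q * a⁻¹ ∈ Q) (hQs : ¬ p ∣ Q.relIndex A)
    {f : A → ℂ} (hf : IsIrrCharacter A f) (hfP : PI P A f) :
    ∃ lam : IrrCharacter Q, (∀ x ∈ P, ∀ q q' : Q, (q' : G) = x * q * x⁻¹ → lam.1 q' = lam.1 q) ∧
      classInner (rs hQA f) lam.1 ≠ 0 := by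
  haveI : Fact p.Prime := ⟨hp⟩
  haveI hN : (Q.subgroupOf A).Normal := normal_subgroupOf hQn
  have hfc := isCharacter_of_isIrrCharacter hf
  have hfcf := isClassFunction_of_isCharacter hfc
  have hrne : rs hQA f ≠ 0 := by
    intro h0
    have := congrFun h0 1
    exact irr_one_ne_zero hf this
  obtain ⟨lam₀, hlam₀, hcon₀⟩ := exists_irr_constituent (isClassFunction_rs hQA hfcf) hrne
  let α := irrPerm Q A hQn
  let β := irrPerm Q P hPQ
  let φ : P →* MulAut A := actOn P A hPA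
  have hφN : ∀ s, ∀ n ∈ Q.subgroupOf A, φ s n ∈ Q.subgroupOf A := by
    intro s n hn
    rw [Subgroup.mem_subgroupOf] at hn ⊢
    exact hPQ s s.2 n hn
  obtain ⟨n, hn⟩ := IsPGroup.iff_card.mp hP
  have key := glauberman_lemma' (Q.subgroupOf A) φ hφN α
    (by
      intro n hn
      ext lam : 1
      apply Subtype.ext
      funext q
      rw [irrPerm_apply]
      have hn' : (n : G) ∈ Q := Subgroup.mem_subgroupOf.mp hn
      have hcf := isClassFunction_of_isIrrCharacter lam.2 q ⟨(n : G)⁻¹, Q.inv_mem hn'⟩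
      refine Eq.trans (congrArg lam.1 (Subtype.ext ?_)) hcf
      rfl)
    β
    (by
      intro s g ω
      apply Subtype.ext
      funext q
      rw [irrPerm_apply, irrPerm_apply, irrPerm_apply, irrPerm_apply]
      refine congrArg ω.1 (Subtype.ext ?_)
      simp only [actOn_coe, InvMemClass.coe_inv, φ]
      group)
    (fun ω => classInner (rs hQA f) ω.1 ≠ 0)
    (by
      intro g ω hω
      rw [classInner_irrPerm hQA hQn hfcf]
      exact hω)
    (by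
      intro s ω hω
      have h1 : (β s ω).1 = ω.1 ∘ (actOn P Q hPQ s⁻¹) := rfl
      have h2 : rs hQA f ∘ (actOn P Q hPQ s⁻¹) = rs hQA f := by
        funext q
        exact hfP _ (s⁻¹).2 ⟨q, hQA q.2⟩ _ rfl
      rw [h1, ← h2]
      rw [classInner_comp_mulEquiv (actOn P Q hPQ s⁻¹)]
      exact hω)
    (by
      intro ω ω' hω hω'
      exact exists_conj_of_under hQA hQn hf hω hω')
    (by
      rw [hn]
      exact Nat.Coprime.pow_right _ ((Nat.Prime.coprime_iff_not_dvd hp).mpr hQs).symm)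
    (Or.inr (isSolvable_of_isPGroup hp hP))
    (ω₀ := ⟨lam₀, hlam₀⟩) hcon₀
  obtain ⟨ω, hω, hfix⟩ := key
  exact ⟨ω, fixed_of_fixed hPQ hfix, hω⟩

/-- Two `P`-fixed characters conjugate under `K` are conjugate under `C`. -/
theorem exists_conj_in_C {p : ℕ} (hp : p.Prime) {P Q K C : Subgroup G} (hP : IsPGroup p P)
    (hPK : ∀ x ∈ P, ∀ a ∈ K, x * a * x⁻¹ ∈ K) (hPQ : ∀ x ∈ P, ∀ q ∈ Q, x * q * x⁻¹ ∈ Q)
    (hQn : ∀ a ∈ K, ∀ q ∈ Q, a * q * a⁻¹ ∈ Q) (hQs : ¬ p ∣ Q.relIndex K)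
    (hC : ∀ k, k ∈ C ↔ k ∈ K ∧ ∀ x ∈ P, x * k * x⁻¹ * k⁻¹ ∈ Q)
    {lam lam' : IrrCharacter Q}
    (hlam : ∀ x ∈ P, ∀ q q' : Q, (q' : G) = x * q * x⁻¹ → lam.1 q' = lam.1 q)
    (hlam' : ∀ x ∈ P, ∀ q q' : Q, (q' : G) = x * q * x⁻¹ → lam'.1 q' = lam'.1 q)
    {k : K} (hk : irrPerm Q K hQn k lam = lam') :
    ∃ c : K, (c : G) ∈ C ∧ irrPerm Q K hQn c lam = lam' := by
  haveI : Fact p.Prime := ⟨hp⟩
  haveI hN : (Q.subgroupOf K).Normal := normal_subgroupOf hQn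
  let φ : P →* MulAut K := actOn P K hPK
  have hφN : ∀ s, ∀ n ∈ Q.subgroupOf K, φ s n ∈ Q.subgroupOf K := by
    intro s n hn
    rw [Subgroup.mem_subgroupOf] at hn ⊢
    exact hPQ s s.2 n hn
  -- the action of `P` on conjugating elements
  have hact : ∀ (s : P) (a : K) (μ : IrrCharacter Q),
      (∀ x ∈ P, ∀ q q' : Q, (q' : G) = x * q * x⁻¹ → μ.1 q' = μ.1 q) →
      irrPerm Q K hQn a lam = μ → irrPerm Q K hQn (φ s a) lam = μ := by
    intro s a μ hμ ha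
    apply Subtype.ext
    funext q
    rw [irrPerm_apply]
    let q₁ : Q := actOn P Q hPQ s⁻¹ q
    let w : Q := actOn K Q hQn a⁻¹ q₁
    have h1 : actOn K Q hQn (φ s a)⁻¹ q = actOn P Q hPQ s w := by
      apply Subtype.ext
      simp only [actOn_coe, InvMemClass.coe_inv, φ, w, q₁]
      group
    rw [h1]
    have h2 := hlam s s.2 w (actOn P Q hPQ s w) rfl
    rw [h2]
    have h3 := congrFun (congrArg Subtype.val ha) q₁
    rw [irrPerm_apply] at h3
    rw [h3]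
    have h4 : actOn P Q hPQ s q₁ = q := by
      apply Subtype.ext
      simp only [actOn_coe, InvMemClass.coe_inv, q₁]
      group
    have h5 := hμ s s.2 q₁ q (by rw [← h4]; rfl)
    exact h5.symm
  let B : Subgroup K := (stab Q K hQn lam.1).subgroupOf K
  have hmemB : ∀ a : K, a ∈ B ↔ irrPerm Q K hQn a lam = lam := fun a => by
    rw [Subgroup.mem_subgroupOf]
    exact mem_stab_iff hQn a lam
  have hφB : ∀ s, ∀ b ∈ B, φ s b ∈ B := by
    intro s b hb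
    rw [hmemB] at hb ⊢
    exact hact s b lam hlam hb
  have hkB : ∀ s, k⁻¹ * φ s k ∈ B := by
    intro s
    rw [hmemB, map_mul, Equiv.Perm.mul_apply, hact s k lam' hlam' hk, ← hk, ← Equiv.Perm.mul_apply,
      ← map_mul, inv_mul_cancel, map_one, Equiv.Perm.one_apply]
  obtain ⟨n, hn⟩ := IsPGroup.iff_card.mp hP
  have hcop : ((Q.subgroupOf K).subgroupOf B).index.Coprime (Nat.card P) := by
    rw [hn]
    apply Nat.Coprime.pow_right
    apply Nat.Coprime.symm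
    rw [Nat.Prime.coprime_iff_not_dvd hp]
    intro hdvd
    apply hQs
    exact hdvd.trans (Subgroup.relIndex_dvd_index_of_normal _ _)
  obtain ⟨b, hb, hfix⟩ := exists_fixed_coset (Q.subgroupOf K) φ hφN B hφB k hkB hcop
    (isSolvable_of_isPGroup hp hP)
  refine ⟨k * b, (hC _).mpr ⟨(k * b).2, fun x hx => ?_⟩, ?_⟩
  · have h1 := hfix ⟨x, hx⟩
    rw [Subgroup.mem_subgroupOf] at h1
    have h2 := hQn _ (k * b).2 _ h1
    have h3 : (((k * b : K) : G)) * ((((k * b)⁻¹ * φ ⟨x, hx⟩ (k * b) : K)) : G) *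
        (((k * b : K) : G))⁻¹ = x * ((k * b : K) : G) * x⁻¹ * (((k * b : K) : G))⁻¹ := by
      simp only [Subgroup.coe_mul, InvMemClass.coe_inv, actOn_coe, φ]
      group
    rw [h3] at h2
    exact h2
  · rw [map_mul, Equiv.Perm.mul_apply, (hmemB b).mp hb, hk]

/-- Induction commutes with the action. -/
theorem ind_comp_act {P T A : Subgroup G} (hTA : T ≤ A) (hPA : ∀ x ∈ P, ∀ a ∈ A, x * a * x⁻¹ ∈ A)
    (hPT : ∀ x ∈ P, ∀ t ∈ T, x * t * x⁻¹ ∈ T) (ψ : T → ℂ) (x : P) :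
    ind hTA (ψ ∘ actOn P T hPT x) = ind hTA ψ ∘ actOn P A hPA x := by
  funext a
  simp only [ind, Function.comp]
  rw [indFun_apply, indFun_apply]
  congr 1
  let σ : A ≃* A := actOn P A hPA x
  rw [← Equiv.sum_comp σ.toEquiv (fun y => extendByZero (T.subgroupOf A) _ (y⁻¹ * σ a * y))]
  apply Finset.sum_congr rfl
  intro y _
  have h1 : (σ y)⁻¹ * σ a * σ y = σ (y⁻¹ * a * y) := by simp
  show _ = extendByZero (T.subgroupOf A) _ ((σ y)⁻¹ * σ a * σ y)
  rw [h1]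
  generalize y⁻¹ * a * y = w
  by_cases hw : w ∈ T.subgroupOf A
  · have hw' : σ w ∈ T.subgroupOf A := hPT x x.2 _ hw
    rw [extendByZero_of_mem _ _ hw, extendByZero_of_mem _ _ hw']
    rfl
  · have hw' : σ w ∉ T.subgroupOf A := by
      intro h
      apply hw
      have h2 : ((x⁻¹ : P) : G) * ((σ w : A) : G) * ((x⁻¹ : P) : G)⁻¹ ∈ T := hPT _ (x⁻¹).2 _ h
      have h3 : ((x⁻¹ : P) : G) * ((σ w : A) : G) * ((x⁻¹ : P) : G)⁻¹ = w := by
        simp only [σ, actOn_coe, InvMemClass.coe_inv]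
        group
      rw [h3] at h2
      exact h2
    rw [extendByZero_of_not_mem _ _ hw, extendByZero_of_not_mem _ _ hw']

/-- Invariance of an induced function. -/
theorem PI_ind {P T A : Subgroup G} (hTA : T ≤ A) (hPA : ∀ x ∈ P, ∀ a ∈ A, x * a * x⁻¹ ∈ A)
    (hPT : ∀ x ∈ P, ∀ t ∈ T, x * t * x⁻¹ ∈ T) {ψ : T → ℂ} (hψ : PI P T ψ) : PI P A (ind hTA ψ) := by
  intro x hx k k' hk
  have h1 : ψ ∘ actOn P T hPT ⟨x, hx⟩ = ψ := by
    funext t
    exact hψ x hx t _ rfl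
  have h2 := ind_comp_act hTA hPA hPT ψ ⟨x, hx⟩
  rw [h1] at h2
  have hk' : k' = actOn P A hPA ⟨x, hx⟩ k := Subtype.ext hk
  rw [hk']
  exact (congrFun h2 k).symm

/-- Invariance of the Clifford correspondent. -/
theorem PI_of_ind {P Q A : Subgroup G} (hQA : Q ≤ A) (hQn : ∀ a ∈ A, ∀ q ∈ Q, a * q * a⁻¹ ∈ Q)
    (hPA : ∀ x ∈ P, ∀ a ∈ A, x * a * x⁻¹ ∈ A) (hPQ : ∀ x ∈ P, ∀ q ∈ Q, x * q * x⁻¹ ∈ Q)
    {lam : Q → ℂ} (hlam : IsIrrCharacter Q lam)
    (hlamP : ∀ x ∈ P, ∀ q q' : Q, (q' : G) = x * q * x⁻¹ → lam q' = lam q)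
    (hPT : ∀ x ∈ P, ∀ t ∈ stab Q A hQn lam, x * t * x⁻¹ ∈ stab Q A hQn lam)
    {ψ : stab Q A hQn lam → ℂ} (hψ : IsIrrCharacter _ ψ)
    (hover : classInner (rs (le_stab' hQA hQn hlam) ψ) lam ≠ 0)
    (hχP : PI P A (ind (stab_le (hQn := hQn) (lam := lam)) ψ)) : PI P (stab Q A hQn lam) ψ := by
  intro x hx k k' hk
  let σ := actOn P (stab Q A hQn lam) hPT ⟨x, hx⟩
  have h1 : ψ ∘ σ = ψ := by
    apply ind_inj hQA hQn hlam (isIrrCharacter_comp_mulEquiv σ hψ) hψ _ hover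
    · rw [ind_comp_act stab_le hPA hPT ψ ⟨x, hx⟩]
      funext a
      exact hχP x hx a _ rfl
    · have h2 : rs (le_stab' hQA hQn hlam) (ψ ∘ σ) =
          rs (le_stab' hQA hQn hlam) ψ ∘ (actOn P Q hPQ ⟨x, hx⟩) := rfl
      have h3 : lam = lam ∘ (actOn P Q hPQ ⟨x, hx⟩) := by
        funext q
        exact (hlamP x hx q _ rfl).symm
      rw [h2]
      generalize rs (le_stab' hQA hQn hlam) ψ = f at hover ⊢
      have h4 : classInner (f ∘ (actOn P Q hPQ ⟨x, hx⟩)) lam = classInner f lam := by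
        conv_lhs => rw [h3]
        exact classInner_comp_mulEquiv (actOn P Q hPQ ⟨x, hx⟩) _ _
      rw [h4]
      exact hover
  have hk' : k' = σ k := Subtype.ext hk
  rw [hk']
  exact congrFun h1 k

/-- Multiplicities of induced characters. -/
theorem mult_eq {Q K C : Subgroup G} (hQK : Q ≤ K) (hQC : Q ≤ C) (hCK : C ≤ K)
    (hQn : ∀ a ∈ K, ∀ q ∈ Q, a * q * a⁻¹ ∈ Q) (hQnC : ∀ a ∈ C, ∀ q ∈ Q, a * q * a⁻¹ ∈ Q)
    {lam : Q → ℂ} (hlam : IsIrrCharacter Q lam)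
    (hDT : stab Q C hQnC lam ≤ stab Q K hQn lam)
    {ψ : stab Q K hQn lam → ℂ} (hψ : IsIrrCharacter _ ψ)
    (hover : classInner (rs (le_stab' hQK hQn hlam) ψ) lam ≠ 0)
    {ψ₀ : stab Q C hQnC lam → ℂ} (hψ₀ : IsIrrCharacter _ ψ₀)
    (hover₀ : classInner (rs (le_stab' hQC hQnC hlam) ψ₀) lam ≠ 0) :
    classInner (rs hCK (ind (stab_le (hQn := hQn) (lam := lam)) ψ))
      (ind (stab_le (hQn := hQnC) (lam := lam)) ψ₀) = classInner (rs hDT ψ) ψ₀ := by
  have := finite_irrCharacter (G := stab Q K hQn lam)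
  letI := Fintype.ofFinite (IrrCharacter (stab Q K hQn lam))
  have hTK : stab Q K hQn lam ≤ K := stab_le
  have hχ := isIrr_ind hQK hQn hlam hψ hover
  set χ := ind (stab_le (hQn := hQn) (lam := lam)) ψ with hχdef
  have hχcf := isClassFunction_of_isIrrCharacter hχ
  rw [classInner_ind_right _ _ _ (isClassFunction_rs hCK hχcf)]
  have h1 : rs stab_le (rs hCK χ) = rs hDT (rs hTK χ) := rfl
  rw [h1]
  have hexp := classFunction_eq_sum (isClassFunction_rs hTK hχcf)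
  have h2 : rs hDT (rs hTK χ) = ∑ τ : IrrCharacter (stab Q K hQn lam),
      classInner (rs hTK χ) (τ : _ → ℂ) • rs hDT (τ : _ → ℂ) := by
    funext d
    have := congrFun hexp ⟨d, hDT d.2⟩
    simpa [Finset.sum_apply] using this
  rw [h2, classInner_sum_left, Finset.sum_eq_single (⟨ψ, hψ⟩ : IrrCharacter (stab Q K hQn lam))]
  · rw [classInner_smul_left]
    have h3 : classInner (rs hTK χ) ψ = 1 := by
      rw [← classInner_ind_right hTK ψ χ hχcf]
      exact classInner_self_of_isIrr hχ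
    show classInner (rs hTK χ) ψ * _ = _
    rw [h3, one_mul]
  · intro τ _ hne
    rw [classInner_smul_left]
    by_cases h0 : classInner (rs hDT (τ : _ → ℂ)) ψ₀ = 0
    · rw [h0, mul_zero]
    · have hτover : classInner (rs (le_stab' hQK hQn hlam) (τ : _ → ℂ)) lam ≠ 0 := by
        have hmono := classInner_ne_zero_mono (Subgroup.inclusion (le_stab' hQC hQnC hlam))
          (isCharacter_rs hDT (isCharacter_of_isIrrCharacter τ.2)) hψ₀ h0
          (isCharacter_of_isIrrCharacter hlam) hover₀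
        exact hmono
      have hτind := isIrr_ind hQK hQn hlam τ.2 hτover
      have h3 : classInner (rs hTK χ) (τ : _ → ℂ) = 0 := by
        rw [← classInner_ind_right hTK _ χ hχcf]
        apply classInner_eq_zero_of_isIrr_of_ne hχ hτind
        intro h
        apply hne
        apply Subtype.ext
        exact (ind_inj hQK hQn hlam hψ τ.2 hover hτover h).symm
      rw [h3, zero_mul]
  · intro h
    exact absurd (Finset.mem_univ _) h

end Act

section Main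

variable {G : Type u} [Group G] [Fintype G]

/-- **The correspondence**: a `p`-group `P` acts on a group `K` with a normal Sylow `p`-subgroup
`Q`, and `C / Q` is the fixed point subgroup of `P` on `K / Q`. -/
theorem main {p : ℕ} (hp : p.Prime) {P Q K C : Subgroup G} (hP : IsPGroup p P)
    (hPK : ∀ x ∈ P, ∀ k ∈ K, x * k * x⁻¹ ∈ K) (hPQ : ∀ x ∈ P, ∀ q ∈ Q, x * q * x⁻¹ ∈ Q)
    (hQK : Q ≤ K) (hQn : ∀ k ∈ K, ∀ q ∈ Q, k * q * k⁻¹ ∈ Q) (hQp : IsPGroup p Q)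
    (hQs : ¬ p ∣ Q.relIndex K) (hCK : C ≤ K)
    (hC : ∀ k, k ∈ C ↔ k ∈ K ∧ ∀ x ∈ P, x * k * x⁻¹ * k⁻¹ ∈ Q) (hQC : Q ≤ C) :
    (∀ χ : K → ℂ, IsIrrCharacter K χ → PI P K χ →
      ∃ ξ : C → ℂ, IsIrrCharacter C ξ ∧ PI P C ξ ∧ Good p (classInner (rs hCK χ) ξ) ∧
        ∀ ξ' : C → ℂ, IsIrrCharacter C ξ' → PI P C ξ' → ξ' ≠ ξ →
          Bad p (classInner (rs hCK χ) ξ')) ∧
    (∀ ξ : C → ℂ, IsIrrCharacter C ξ → PI P C ξ →
      ∃ χ : K → ℂ, IsIrrCharacter K χ ∧ PI P K χ ∧ Good p (classInner (rs hCK χ) ξ) ∧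
        ∀ χ' : K → ℂ, IsIrrCharacter K χ' → PI P K χ' → χ' ≠ χ →
          Bad p (classInner (rs hCK χ') ξ)) := by
  have hQnC : ∀ c ∈ C, ∀ q ∈ Q, c * q * c⁻¹ ∈ Q := fun c hc q hq => hQn c (hCK hc) q hq
  have hPC : ∀ x ∈ P, ∀ c ∈ C, x * c * x⁻¹ ∈ C := by
    intro x hx c hc
    refine (hC _).mpr ⟨hPK x hx c (hCK hc), fun y hy => ?_⟩
    have h1 := ((hC c).mp hc).2 x hx
    have h2 := ((hC c).mp hc).2 y hy
    have h3 := ((hC c).mp hc).2 (y * x) (P.mul_mem hy hx)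
    have h4 : y * (x * c * x⁻¹) * y⁻¹ * (x * c * x⁻¹)⁻¹ =
        (y * x * c * (y * x)⁻¹ * c⁻¹) * (x * c * x⁻¹ * c⁻¹)⁻¹ := by group
    rw [h4]
    exact Q.mul_mem h3 (Q.inv_mem h1)
  have hQsC : ¬ p ∣ Q.relIndex C := fun h =>
    hQs (h.trans ⟨C.relIndex K, (Subgroup.relIndex_mul_relIndex Q C K hQC hCK).symm⟩)
  -- the stabilizers
  have hDT : ∀ lam : Q → ℂ, stab Q C hQnC lam ≤ stab Q K hQn lam :=
    fun lam d hd => ⟨hCK hd.1, hd.2⟩
  have hPT : ∀ lam : Q → ℂ, (∀ x ∈ P, ∀ q q' : Q, (q' : G) = x * q * x⁻¹ → lam q' = lam q) →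
      ∀ x ∈ P, ∀ t ∈ stab Q K hQn lam, x * t * x⁻¹ ∈ stab Q K hQn lam := by
    intro lam hfix x hx t ht
    refine ⟨hPK x hx t ht.1, fun q q' hq => ?_⟩
    have hq1 := hPQ _ (P.inv_mem hx) q q.2
    have hq2 := hQn t ht.1 _ hq1
    rw [hfix x hx ⟨_, hq2⟩ q' (by rw [hq]; simp only; group), ht.2 ⟨_, hq1⟩ ⟨_, hq2⟩ rfl]
    exact hfix x hx ⟨_, hq1⟩ q (by simp only; group) |>.symm
  have hPD : ∀ lam : Q → ℂ, (∀ x ∈ P, ∀ q q' : Q, (q' : G) = x * q * x⁻¹ → lam q' = lam q) →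
      ∀ x ∈ P, ∀ t ∈ stab Q C hQnC lam, x * t * x⁻¹ ∈ stab Q C hQnC lam := by
    intro lam hfix x hx t ht
    exact ⟨hPC x hx t ht.1, (hPT lam hfix x hx t (hDT lam ht)).2⟩
  have hstep : ∀ lam : IrrCharacter Q,
      (∀ x ∈ P, ∀ q q' : Q, (q' : G) = x * q * x⁻¹ → lam.1 q' = lam.1 q) → _ := fun lam hfix =>
    stepA hp hP (hPT lam.1 hfix) hPQ (le_stab' hQK hQn lam.2) (fun t ht => hQn t ht.1) hQp
      (fun h => hQs (h.trans ⟨_, (Subgroup.relIndex_mul_relIndex Q _ K (le_stab' hQK hQn lam.2)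
        stab_le).symm⟩))
      (hDT lam.1)
      (fun k => ⟨fun h => ⟨hDT lam.1 h, fun x hx => ((hC k).mp h.1).2 x hx⟩,
        fun h => ⟨(hC k).mpr ⟨h.1.1, h.2⟩, h.1.2⟩⟩)
      (le_stab' hQC hQnC lam.2) lam.2 (fun t ht => ht.2) hfix
  -- constituents of `C`-characters
  have hunder : ∀ {χ : K → ℂ} (_ : IsIrrCharacter K χ) {ξ : C → ℂ} (_ : IsIrrCharacter C ξ)
      {lam : IrrCharacter Q}, classInner (rs hCK χ) ξ ≠ 0 → classInner (rs hQC ξ) lam.1 ≠ 0 →
      classInner (rs hQK χ) lam.1 ≠ 0 := by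
    intro χ hχ ξ hξ lam h1 h2
    exact classInner_ne_zero_mono (Subgroup.inclusion hQC)
      (isCharacter_rs hCK (isCharacter_of_isIrrCharacter hχ)) hξ h1
      (isCharacter_of_isIrrCharacter lam.2) h2
  constructor
  · intro χ hχ hχP
    obtain ⟨lam, hfix, hover⟩ := exists_fixed_under hp hP hPK hPQ hQK hQn hQs hχ hχP
    obtain ⟨hA1, -, hA3⟩ := hstep lam hfix
    obtain ⟨ψ, hψ, hind, hψover⟩ := exists_ind hQK hQn lam.2 hχ hover
    have hψP : PI P _ ψ := PI_of_ind hQK hQn hPK hPQ lam.2 hfix (hPT lam.1 hfix) hψ hψover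
      (by rw [hind]; exact hχP)
    obtain ⟨ψ₀, hψ₀, hover₀, hgood, hbad⟩ := hA1 ψ hψ hψP hψover
    refine ⟨ind stab_le ψ₀, isIrr_ind hQC hQnC lam.2 hψ₀ hover₀,
      PI_ind stab_le hPC (hPD lam.1 hfix) (hA3 ψ₀ hψ₀ hover₀), ?_, ?_⟩
    · rw [← hind, mult_eq hQK hQC hCK hQn hQnC lam.2 (hDT lam.1) hψ hψover hψ₀ hover₀]
      exact hgood
    · intro ξ' hξ' hξ'P hne
      by_cases h0 : classInner (rs hCK χ) ξ' = 0
      · exact ⟨0, by rw [h0]; simp⟩
      · obtain ⟨lam', hfix', hover'⟩ := exists_fixed_under hp hP hPC hPQ hQC hQnC hQsC hξ' hξ'P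
        have hχlam' := hunder hχ hξ' h0 hover'
        obtain ⟨k, hk⟩ := exists_conj_of_under hQK hQn hχ hχlam' hover
        obtain ⟨c, hc, hcl⟩ := exists_conj_in_C hp hP hPK hPQ hQn hQs hC hfix' hfix hk
        have hξlam : classInner (rs hQC ξ') lam.1 ≠ 0 := by
          have h1 := classInner_irrPerm hQC hQnC (isClassFunction_of_isIrrCharacter hξ') ⟨c, hc⟩ lam'
          have h2 : irrPerm Q C hQnC ⟨c, hc⟩ lam' = lam := by
            rw [← hcl]
            apply Subtype.ext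
            rfl
          rw [h2] at h1
          rw [h1]
          exact hover'
        obtain ⟨ψ₁, hψ₁, hind₁, hover₁⟩ := exists_ind hQC hQnC lam.2 hξ' hξlam
        rw [← hind₁, ← hind, mult_eq hQK hQC hCK hQn hQnC lam.2 (hDT lam.1) hψ hψover hψ₁ hover₁]
        apply hbad ψ₁ hψ₁ hover₁
        rintro rfl
        exact hne hind₁.symm
  · intro ξ hξ hξP
    obtain ⟨lam, hfix, hover⟩ := exists_fixed_under hp hP hPC hPQ hQC hQnC hQsC hξ hξP
    obtain ⟨-, hA2, -⟩ := hstep lam hfix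
    obtain ⟨ψ₀, hψ₀, hind₀, hover₀⟩ := exists_ind hQC hQnC lam.2 hξ hover
    obtain ⟨ψ, hψ, hψP, hψover, hgood, hbad⟩ := hA2 ψ₀ hψ₀ hover₀
    refine ⟨ind stab_le ψ, isIrr_ind hQK hQn lam.2 hψ hψover,
      PI_ind stab_le hPK (hPT lam.1 hfix) hψP, ?_, ?_⟩
    · rw [← hind₀, mult_eq hQK hQC hCK hQn hQnC lam.2 (hDT lam.1) hψ hψover hψ₀ hover₀]
      exact hgood
    · intro χ' hχ' hχ'P hne
      by_cases h0 : classInner (rs hCK χ') ξ = 0
      · exact ⟨0, by rw [h0]; simp⟩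
      · have hχlam := hunder hχ' hξ h0 hover
        obtain ⟨ψ₁, hψ₁, hind₁, hover₁⟩ := exists_ind hQK hQn lam.2 hχ' hχlam
        have hψ₁P : PI P _ ψ₁ := PI_of_ind hQK hQn hPK hPQ lam.2 hfix (hPT lam.1 hfix) hψ₁ hover₁
          (by rw [hind₁]; exact hχ'P)
        rw [← hind₀, ← hind₁, mult_eq hQK hQC hCK hQn hQnC lam.2 (hDT lam.1) hψ₁ hover₁ hψ₀ hover₀]
        apply hbad ψ₁ hψ₁ hψ₁P hover₁
        rintro rfl
        exact hne hind₁.symm

theorem PI_iff_fixed {P C : Subgroup G} (hPC : ∀ x ∈ P, ∀ q ∈ C, x * q * x⁻¹ ∈ C)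
    (ξ : IrrCharacter C) : PI P C ξ.1 ↔ ∀ s, irrPerm C P hPC s ξ = ξ := by
  constructor
  · intro h s
    apply Subtype.ext
    funext c
    rw [irrPerm_apply]
    exact h _ (s⁻¹).2 c _ rfl
  · exact fun h => fixed_of_fixed hPC h

/-- The degrees of corresponding characters. -/
theorem deg_congr {p : ℕ} (hp : p.Prime) {P K C : Subgroup G} (hP : IsPGroup p P)
    (hPC : ∀ x ∈ P, ∀ c ∈ C, x * c * x⁻¹ ∈ C) (hCK : C ≤ K) {χ : K → ℂ}
    (hχ : IsIrrCharacter K χ) (hχP : PI P K χ) {ξ : C → ℂ} (hξ : IsIrrCharacter C ξ)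
    (hξP : PI P C ξ) (hgood : Good p (classInner (rs hCK χ) ξ))
    (hbad : ∀ ξ' : C → ℂ, IsIrrCharacter C ξ' → PI P C ξ' → ξ' ≠ ξ →
      Bad p (classInner (rs hCK χ) ξ')) :
    ∃ ε : ℤ, (ε = 1 ∨ ε = -1) ∧ (p : ℤ) ∣ (charDegree χ : ℤ) - ε * (charDegree ξ : ℤ) := by
  have := finite_irrCharacter (G := C)
  letI := Fintype.ofFinite (IrrCharacter C)
  haveI : Fact p.Prime := ⟨hp⟩
  have hχc := isCharacter_of_isIrrCharacter hχ
  have hrcf : IsClassFunction C (rs hCK χ) :=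
    isClassFunction_rs hCK (isClassFunction_of_isCharacter hχc)
  -- the multiplicities
  have hnat : ∀ ξ' : IrrCharacter C, ∃ m : ℕ, classInner (rs hCK χ) ξ'.1 = m := fun ξ' =>
    exists_nat_classInner (isCharacter_rs hCK hχc) (isCharacter_of_isIrrCharacter ξ'.2)
  choose m hm using hnat
  let w : IrrCharacter C → ℤ := fun ξ' => (m ξ' : ℤ) * (charDegree ξ'.1 : ℤ)
  -- the sum formula
  have hsum : (charDegree χ : ℤ) = ∑ ξ' : IrrCharacter C, w ξ' := by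
    have h1 := congrFun (classFunction_eq_sum hrcf) 1
    have h2 : ((charDegree χ : ℕ) : ℂ) = χ 1 := charDegree_natCast hχc
    have h3 : rs hCK χ 1 = χ 1 := rfl
    rw [h3, Finset.sum_apply] at h1
    have h4 : ((charDegree χ : ℤ) : ℂ) = ((∑ ξ' : IrrCharacter C, w ξ' : ℤ) : ℂ) := by
      push_cast
      rw [h2, h1]
      refine Finset.sum_congr rfl fun ξ' _ => ?_
      rw [Pi.smul_apply, smul_eq_mul, hm]
      simp only [w]
      push_cast
      rw [charDegree_natCast (isCharacter_of_isIrrCharacter ξ'.2)]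
    exact_mod_cast h4
  -- the action
  letI act : MulAction P (IrrCharacter C) := MulAction.compHom _ (irrPerm C P hPC)
  have hact : ∀ (s : P) (ξ' : IrrCharacter C), s • ξ' = irrPerm C P hPC s ξ' := fun _ _ => rfl
  have hw : ∀ (s : P) (ξ' : IrrCharacter C), w (s • ξ') = w ξ' := by
    intro s ξ'
    have h1 : m (s • ξ') = m ξ' := by
      have h2 : rs hCK χ ∘ actOn P C hPC s⁻¹ = rs hCK χ := by
        funext c
        exact hχP _ (s⁻¹).2 ⟨c, hCK c.2⟩ _ rfl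
      have h3 : ((m (s • ξ') : ℕ) : ℂ) = m ξ' := by
        rw [← hm, ← hm, hact]
        show classInner (rs hCK χ) (ξ'.1 ∘ actOn P C hPC s⁻¹) = _
        conv_lhs => rw [← h2]
        exact classInner_comp_mulEquiv _ _ _
      exact_mod_cast h3
    have h2 : charDegree (s • ξ').1 = charDegree ξ'.1 := by
      show charDegree (ξ'.1 ∘ actOn P C hPC s⁻¹) = _
      unfold charDegree
      simp
    simp only [w, h1, h2]
  have hnonfix := Cfsg.Agent.Lib.Glauberman.Above.weighted_dvd hp hP w hw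
  set ξ₀ : IrrCharacter C := ⟨ξ, hξ⟩ with hξ₀
  -- split the sum
  have hsplit : ∑ ξ' : IrrCharacter C, w ξ' =
      ∑ ξ' ∈ univ.filter (fun x : IrrCharacter C => ∃ d : P, d • x ≠ x), w ξ' +
      ∑ ξ' ∈ univ.filter (fun x : IrrCharacter C => ¬ ∃ d : P, d • x ≠ x), w ξ' :=
    (Finset.sum_filter_add_sum_filter_not _ _ _).symm
  have hmem : ξ₀ ∈ univ.filter (fun x : IrrCharacter C => ¬ ∃ d : P, d • x ≠ x) := by
    simp only [Finset.mem_filter, Finset.mem_univ, true_and, not_exists, not_not]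
    exact (PI_iff_fixed hPC ξ₀).mp hξP
  have hrest : (p : ℤ) ∣ ∑ ξ' ∈ (univ.filter (fun x : IrrCharacter C => ¬ ∃ d : P, d • x ≠ x)).erase ξ₀,
      w ξ' := by
    apply Finset.dvd_sum
    intro ξ' hξ'
    rw [Finset.mem_erase, Finset.mem_filter] at hξ'
    obtain ⟨hne, -, hfix⟩ := hξ'
    simp only [not_exists, not_not] at hfix
    have hPI := (PI_iff_fixed hPC ξ').mpr hfix
    obtain ⟨k, hk⟩ := hbad ξ'.1 ξ'.2 hPI (fun h => hne (Subtype.ext h))
    have h1 : (m ξ' : ℤ) = p * k := by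
      have h2 : ((m ξ' : ℤ) : ℂ) = ((p * k : ℤ) : ℂ) := by
        rw [← hk, hm]
        simp
      exact_mod_cast h2
    simp only [w, h1]
    exact ⟨k * (charDegree ξ'.1 : ℤ), by ring⟩
  obtain ⟨ε, k, hε, hk⟩ := hgood
  refine ⟨ε, hε, ?_⟩
  have h1 : (m ξ₀ : ℤ) = p * k + ε := by
    have h2 : ((m ξ₀ : ℤ) : ℂ) = ((p * k + ε : ℤ) : ℂ) := by
      rw [← hk]
      show _ = classInner (rs hCK χ) ξ₀.1
      rw [hm]
      simp
    exact_mod_cast h2
  rw [hsum, hsplit, ← Finset.add_sum_erase _ _ hmem]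
  have h2 : w ξ₀ = (p * k + ε) * (charDegree ξ : ℤ) := by
    show (m ξ₀ : ℤ) * (charDegree ξ : ℤ) = _
    rw [h1]
  rw [h2]
  have h3 : ∀ a b : ℤ, a + ((p * k + ε) * (charDegree ξ : ℤ) + b) - ε * (charDegree ξ : ℤ) =
      a + b + p * (k * (charDegree ξ : ℤ)) := by
    intro a b
    ring
  rw [h3]
  exact dvd_add (dvd_add hnonfix hrest) (Dvd.intro _ rfl)

end Main

end Cfsg.Agent.Lib.DGN.Main
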